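import Mathlib

/-!
# Transcendence degree over `R₀[a]` and over `R₀[a ^ n + b]`
-/

set_option autoImplicit false

open MvPolynomial Cardinal

namespace Groth.Agent.FibDimPow

universe u

/-- If `P ≠ 0` has coefficients of degree `< n`, then `P(α - X ^ n) ≠ 0`. -/
theorem eval_C_sub_X_pow_ne_zero {M : Type u} [CommRing M] [IsDomain M]
    (P : Polynomial (Polynomial M)) (hP : P ≠ 0) (n : ℕ)
    (hn : ∀ i, (P.coeff i).natDegree < n) (α : M) :
    P.eval (Polynomial.C α - Polynomial.X ^ n) ≠ 0 := by
  classical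
  set u : Polynomial M := Polynomial.C α - Polynomial.X ^ n with hu
  have hudeg : u.natDegree = n := by
    rw [hu]
    exact (Polynomial.natDegree_sub_eq_right_of_natDegree_lt
      (by rw [Polynomial.natDegree_X_pow, Polynomial.natDegree_C]; exact (Nat.zero_le _).trans_lt (hn 0))).trans
      (Polynomial.natDegree_X_pow n)
  have hu0 : u ≠ 0 := fun h => by
    have := hn 0
    rw [h, Polynomial.natDegree_zero] at hudeg
    omega
  set e := P.natDegree
  have htop : P.coeff e ≠ 0 := Polynomial.leadingCoeff_ne_zero.mpr hP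
  rw [Polynomial.eval_eq_sum_range, Finset.sum_range_succ, show P.natDegree = e from rfl]
  have hd : (P.coeff e * u ^ e).natDegree = (P.coeff e).natDegree + e * n := by
    rw [Polynomial.natDegree_mul htop (pow_ne_zero _ hu0), Polynomial.natDegree_pow, hudeg]
  rcases Nat.eq_zero_or_pos e with he | he
  · rw [he] at htop ⊢
    simpa using htop
  intro h0
  have hlt : (∑ i ∈ Finset.range e, P.coeff i * u ^ i).natDegree < e * n := by
    refine lt_of_le_of_lt (Polynomial.natDegree_sum_le_of_forall_le _ _ (n := e * n - 1) fun i hi => ?_) ?_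
    · have hi' : i + 1 ≤ e := Finset.mem_range.mp hi
      have h1 := Polynomial.natDegree_mul_le (p := P.coeff i) (q := u ^ i)
      rw [Polynomial.natDegree_pow, hudeg] at h1
      have h2 : (i + 1) * n ≤ e * n := Nat.mul_le_mul_right n hi'
      have := hn i
      rw [Nat.add_mul, one_mul] at h2
      omega
    · have : 0 < e * n := Nat.mul_pos he ((Nat.zero_le _).trans_lt (hn 0))
      omega
  have hneg := eq_neg_of_add_eq_zero_right h0
  rw [hneg, Polynomial.natDegree_neg] at hd
  omega

variable {R₀ K : Type u} [CommRing R₀] [IsDomain R₀] [CommRing K] [IsDomain K] [Algebra R₀ K]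
  [FaithfulSMul R₀ K]

theorem trdeg_adjoin_singleton_le_one (a : K) : Algebra.trdeg R₀ (Algebra.adjoin R₀ {a}) ≤ 1 := by
  let s : Set (Algebra.adjoin R₀ {a}) := {⟨a, Algebra.self_mem_adjoin_singleton R₀ a⟩}
  have hs : Algebra.adjoin R₀ s = ⊤ := by
    have := Algebra.adjoin_adjoin_coe_preimage (R := R₀) (s := ({a} : Set K))
    convert this using 2
    ext x
    simp [s, Subtype.ext_iff]
  have : Algebra.IsAlgebraic (Algebra.adjoin R₀ s) (Algebra.adjoin R₀ {a}) :=
    ⟨fun x => isAlgebraic_algebraMap (⟨x, hs ▸ Algebra.mem_top⟩ : Algebra.adjoin R₀ s)⟩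
  exact (Algebra.IsAlgebraic.trdeg_le_cardinalMk R₀ s).trans_eq (mk_singleton _)

theorem trdeg_le_of_forall_not_indep {B : Type u} [CommRing B] [IsDomain B] [Algebra B K]
    [FaithfulSMul B K] {d : ℕ} (h : ∀ g : Fin (d + 1) → K, ¬ AlgebraicIndependent B g) :
    Algebra.trdeg B K ≤ d := by
  by_contra hlt
  obtain ⟨s, hs⟩ := exists_isTranscendenceBasis B K
  rw [not_le, ← hs.cardinalMk_eq_trdeg] at hlt
  have h1 : ((d + 1 : ℕ) : Cardinal) ≤ #s := by
    exact_mod_cast Cardinal.natCast_add_one_le_iff.mpr hlt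
  obtain ⟨f⟩ : Nonempty (Fin (d + 1) ↪ s) := by
    rw [← Cardinal.lift_mk_le']
    simpa using h1
  exact h _ (hs.1.comp f f.injective)

theorem trdeg_le_succ (a : K) {d : ℕ}
    (h : ∀ g : Fin (d + 1) → K, ¬ AlgebraicIndependent (Algebra.adjoin R₀ {a}) g) :
    Algebra.trdeg R₀ K ≤ (d + 1 : ℕ) := by
  rw [← trdeg_add_eq R₀ (Algebra.adjoin R₀ {a}) (A := K)]
  refine (add_le_add (trdeg_adjoin_singleton_le_one a) (trdeg_le_of_forall_not_indep h)).trans_eq ?_
  push_cast
  rw [add_comm]

/-- Any `d + 2` elements are dependent once every `d + 1` are dependent over `R₀[a]`. -/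
theorem not_indep_add_two (a : K) {d : ℕ}
    (h : ∀ g : Fin (d + 1) → K, ¬ AlgebraicIndependent (Algebra.adjoin R₀ {a}) g)
    (z : Fin (d + 2) → K) : ¬ AlgebraicIndependent R₀ z := by
  intro hz
  have := hz.lift_cardinalMk_le_trdeg.trans (lift_le.mpr (trdeg_le_succ a h))
  simp at this
  norm_cast at this
  omega

theorem degree_bound {d : ℕ} (F : MvPolynomial (Fin (d + 2)) R₀) (i : ℕ) :
    (MvPolynomial.finSuccEquiv R₀ d ((MvPolynomial.finSuccEquiv R₀ (d + 1) F).coeff i)).natDegree
      ≤ F.degreeOf 1 := by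
  rw [MvPolynomial.natDegree_finSuccEquiv]
  exact MvPolynomial.degreeOf_coeff_finSuccEquiv F 0 i

set_option maxHeartbeats 3000000 in
/-- The heart: dependence over `R₀[a]` propagates to `R₀[a ^ n + b]` for large `n`. -/
theorem not_indep_pow_add (a b : K) {d m n : ℕ} (v : Fin m → K)
    (hv : Algebra.adjoin R₀ (Set.range v) = ⊤)
    (h : ∀ g : Fin (d + 1) → K, ¬ AlgebraicIndependent (Algebra.adjoin R₀ {a}) g)
    (hwit : ∀ j : Fin d → Fin m, ∃ F : MvPolynomial (Fin (d + 2)) R₀, F ≠ 0 ∧
      aeval (Fin.cons b (Fin.cons a fun i => v (j i))) F = 0 ∧ F.degreeOf 1 < n)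
    (g : Fin (d + 1) → K) :
    ¬ AlgebraicIndependent (Algebra.adjoin R₀ {a ^ n + b}) g := by
  classical
  intro hg
  set α := a ^ n + b with hα
  set A' := Algebra.adjoin R₀ {α}
  have hle : Algebra.trdeg R₀ K ≤ ((d + 1 : ℕ) : Cardinal) := trdeg_le_succ a h
  have hge : ((d + 1 : ℕ) : Cardinal) ≤ Algebra.trdeg A' K := by
    simpa using hg.lift_cardinalMk_le_trdeg
  have hsum := trdeg_add_eq R₀ A' (A := K)
  obtain ⟨tA, htA⟩ : ∃ t : ℕ, Algebra.trdeg R₀ A' = t :=
    Cardinal.lt_aleph0.mp ((trdeg_adjoin_singleton_le_one α).trans_lt one_lt_aleph0)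
  obtain ⟨tK, htK⟩ : ∃ t : ℕ, Algebra.trdeg R₀ K = t :=
    Cardinal.lt_aleph0.mp (hle.trans_lt (nat_lt_aleph0 _))
  obtain ⟨tK', htK'⟩ : ∃ t : ℕ, Algebra.trdeg A' K = t := by
    refine Cardinal.lt_aleph0.mp (lt_of_le_of_lt ?_ (nat_lt_aleph0 tK))
    rw [← htK, ← hsum]
    exact self_le_add_left _ _
  rw [htA, htK, htK'] at hsum
  rw [htK] at hle
  rw [htK'] at hge
  norm_cast at hle hge hsum
  have htA0 : tA = 0 := by omega
  have htK1 : tK = d + 1 := by omega
  -- `α` is algebraic and `a` is transcendental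
  have hαalg : IsAlgebraic R₀ α := by
    have : Algebra.IsAlgebraic R₀ A' := trdeg_eq_zero_iff.mp (by rw [htA, htA0, Nat.cast_zero])
    exact (this.isAlgebraic ⟨α, Algebra.self_mem_adjoin_singleton R₀ α⟩).algHom (A'.val)
  have hatr : Transcendental R₀ a := by
    intro ha
    have h0 : Algebra.trdeg R₀ (Algebra.adjoin R₀ {a}) = 0 :=
      trdeg_eq_zero_iff.mpr (Subalgebra.isAlgebraic_iff _ |>.mp fun x hx =>
        Algebra.adjoin_le (S := Subalgebra.algebraicClosure R₀ K) (Set.singleton_subset_iff.mpr ha) hx)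
    have h1 := trdeg_add_eq R₀ (Algebra.adjoin R₀ {a}) (A := K)
    have h2 := trdeg_le_of_forall_not_indep h
    rw [h0, zero_add] at h1
    rw [h1, htK, htK1] at h2
    norm_cast at h2
    omega
  -- a transcendence basis `a, y` made of generators
  have halg : Algebra.IsAlgebraic (Algebra.adjoin R₀ (insert a (Set.range v))) K := by
    have : Algebra.adjoin R₀ (insert a (Set.range v)) = ⊤ :=
      top_unique (hv.ge.trans (Algebra.adjoin_mono (Set.subset_insert _ _)))
    rw [this]
    exact ⟨fun x => isAlgebraic_algebraMap (⟨x, trivial⟩ : (⊤ : Subalgebra R₀ K))⟩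
  obtain ⟨t, hat, htv, ht⟩ := exists_isTranscendenceBasis_between (R := R₀) {a}
    (insert a (Set.range v)) (by simp)
    (by
      change AlgebraicIndependent R₀ fun x : ({a} : Set K) => (x : K)
      exact (algebraicIndependent_singleton_iff ⟨a, rfl⟩).mpr hatr)
  have hat' : a ∈ t := hat rfl
  have hcard : #t = ((d + 1 : ℕ) : Cardinal) := by rw [ht.cardinalMk_eq_trdeg, htK, htK1]
  have hfin : t.Finite := Cardinal.lt_aleph0_iff_set_finite.mp (hcard ▸ nat_lt_aleph0 _)
  obtain ⟨ft, rfl⟩ := hfin.exists_finset_coe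
  have hft : ft.card = d + 1 := by
    exact_mod_cast Cardinal.mk_coe_finset.symm.trans hcard
  have he : (ft.erase a).card = d := by
    rw [Finset.card_erase_of_mem (by simpa using hat'), hft]
    omega
  let e := (Finset.equivFinOfCardEq he).symm
  have hj : ∀ i, ∃ j, v j = (e i : K) := fun i => by
    have hi := Finset.mem_erase.mp (e i).2
    rcases htv hi.2 with h' | h'
    · exact absurd h' hi.1
    · exact h'
  choose j hj using hj
  have hy : AlgebraicIndependent R₀ (Fin.cons a fun i => v (j i) : Fin (d + 1) → K) := by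
    have hmem : ∀ i : Fin (d + 1),
        (Fin.cons a fun i => v (j i) : Fin (d + 1) → K) i ∈ (ft : Set K) := by
      intro i
      refine Fin.cases ?_ (fun i => ?_) i
      · simpa using hat'
      · simp [hj, Finset.mem_of_mem_erase (e i).2]
    have hinj : Function.Injective fun i : Fin (d + 1) => (⟨_, hmem i⟩ : (ft : Set K)) := by
      intro i i' hii
      have hii' := congr_arg Subtype.val hii
      refine Fin.cons_injective_iff.mpr ⟨?_, ?_⟩ hii'
      · rintro ⟨k, hk⟩
        exact (Finset.mem_erase.mp (e k).2).1 ((hj k).symm.trans hk)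
      · intro k k' hk
        simp only [hj] at hk
        exact e.injective (Subtype.ext hk)
    exact AlgebraicIndependent.comp (x := fun x : (ft : Set K) => (x : K)) ht.1 _ hinj
  obtain ⟨F, hF0, hF, hFn⟩ := hwit j
  set y : Fin d → K := fun i => v (j i)
  -- `a` is transcendental over the algebraic closure `M` of `R₀[y]`
  set My := Algebra.adjoin R₀ (Set.range y)
  set M := Subalgebra.algebraicClosure My K
  have hy' : AlgebraicIndependent R₀ y := by
    have := hy.comp _ (Fin.succ_injective d)
    simpa [Function.comp_def] using this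
  have hay : Transcendental My a := by
    rw [← hy'.option_iff_transcendental a]
    have := hy.comp (fun o : Option (Fin d) => o.elim 0 Fin.succ) (by
      intro o o' hoo
      rcases o with _ | o <;> rcases o' with _ | o' <;>
        simp_all [Fin.succ_ne_zero, (Fin.succ_ne_zero _).symm])
    convert this using 1
    funext o
    rcases o with _ | o <;> rfl
  have haM : Transcendental M a := fun ha =>
    hay (IsAlgebraic.restrictScalars My ha)
  have hαM : α ∈ M := by
    change IsAlgebraic My α
    exact IsAlgebraic.extendScalars (FaithfulSMul.algebraMap_injective R₀ My) hαalg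
  -- the polynomial `F(α - X ^ n, X, y)` over `M`
  let ι : MvPolynomial (Fin d) R₀ →+* M :=
    (algebraMap My M).comp
      ((aeval (fun i => (⟨y i, Algebra.subset_adjoin ⟨i, rfl⟩⟩ : My))).toRingHom)
  have hι : ∀ c, (algebraMap M K) (ι c) = aeval y c := by
    intro c
    change My.val (aeval _ c) = _
    exact MvPolynomial.comp_aeval_apply (f := fun i => (⟨y i, Algebra.subset_adjoin ⟨i, rfl⟩⟩ : My))
      My.val c
  have hιinj : Function.Injective ι := fun c c' hcc => hy' (by rw [← hι, ← hι, hcc])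
  let θ : MvPolynomial (Fin (d + 1)) R₀ →+* Polynomial M :=
    (Polynomial.mapRingHom ι).comp (MvPolynomial.finSuccEquiv R₀ d).toRingEquiv.toRingHom
  have hθinj : Function.Injective θ :=
    (Polynomial.map_injective _ hιinj).comp (MvPolynomial.finSuccEquiv R₀ d).injective
  set P := (MvPolynomial.finSuccEquiv R₀ (d + 1) F).map θ with hP
  have hP0 : P ≠ 0 := by
    rw [hP, ne_eq, Polynomial.map_eq_zero_iff hθinj, EmbeddingLike.map_eq_zero_iff]
    exact hF0
  have hPn : ∀ i, (P.coeff i).natDegree < n := fun i => by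
    rw [hP, Polynomial.coeff_map]
    exact lt_of_le_of_lt ((Polynomial.natDegree_map_le).trans (degree_bound F i)) hFn
  refine eval_C_sub_X_pow_ne_zero P hP0 n hPn ⟨α, hαM⟩ (transcendental_iff.mp haM _ ?_)
  -- evaluate at `a`
  have hθa : ∀ c, Polynomial.aeval a (θ c) =
      aeval (Fin.cons a y : Fin (d + 1) → K) c := by
    intro c
    refine congr_fun (congr_arg DFunLike.coe (RingHom.ext_iff.mpr fun c => ?_ :
      ((Polynomial.aeval (R := M) a).toRingHom.comp θ) =
        (aeval (Fin.cons a y : Fin (d + 1) → K)).toRingHom)) c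
    induction c using MvPolynomial.induction_on with
    | C r => simp [θ, hι, MvPolynomial.finSuccEquiv_apply]
    | add p q hp hq => simp only [map_add, hp, hq]
    | mul_X p i hp =>
      simp only [map_mul, hp]
      congr 1
      refine Fin.cases ?_ (fun i => ?_) i
      · simp [θ, MvPolynomial.finSuccEquiv_X_zero]
      · simp [θ, MvPolynomial.finSuccEquiv_X_succ, hι]
  rw [hP, Polynomial.eval_map, ← RingHom.coe_coe, Polynomial.hom_eval₂]
  have hb : Polynomial.aeval a (Polynomial.C (⟨α, hαM⟩ : M) - Polynomial.X ^ n) = b := by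
    simp [hα]
  rw [RingHom.coe_coe, hb]
  have key : ((Polynomial.aeval (R := M) a).toRingHom.comp θ) =
      (aeval (Fin.cons a y : Fin (d + 1) → K)).toRingHom := RingHom.ext hθa
  rw [← AlgHom.toRingHom_eq_coe, key, ← hF]
  clear hP hP0 hPn hF hF0 hFn P
  induction F using MvPolynomial.induction_on with
  | C r => simp [MvPolynomial.finSuccEquiv_apply]
  | add p q hp hq => simp only [map_add, Polynomial.eval₂_add, hp, hq]
  | mul_X p i hp =>
    simp only [map_mul, Polynomial.eval₂_mul, hp]
    congr 1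
    refine Fin.cases ?_ (fun i => ?_) i
    · simp [MvPolynomial.finSuccEquiv_X_zero]
    · simp [MvPolynomial.finSuccEquiv_X_succ]

end Groth.Agent.FibDimPow
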