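import Mathlib
import Groth.Agent.VarDim.Basic

/-!
# Fibre dimension and transcendence degree of the domains `S ⧸ Q` over `A ⧸ P`
-/

set_option autoImplicit false

open TensorProduct

namespace Groth.Agent.FibDimPow

universe u

variable {A S : Type u} [CommRing A] [CommRing S] [Algebra A S]

theorem not_indep_of_dim_le [Algebra.FiniteType A S] (P : Ideal A) [P.IsPrime] (Q : Ideal S)
    [Q.IsPrime] [Q.LiesOver P] {d : ℕ} (h : ringKrullDim (P.Fiber S) ≤ (d : WithBot ℕ∞))
    (g : Fin (d + 1) → S ⧸ Q) : ¬ AlgebraicIndependent (A ⧸ P) g := by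
  intro hg
  letI : Algebra P.ResidueField Q.ResidueField :=
    (Ideal.ResidueField.map P Q (algebraMap A S) (Q.over_def P)).toAlgebra
  haveI : IsScalarTower A P.ResidueField Q.ResidueField :=
    IsScalarTower.of_algebraMap_eq fun a => by
      rw [RingHom.algebraMap_toAlgebra, Ideal.ResidueField.map_algebraMap,
        ← IsScalarTower.algebraMap_apply]
  let ψ : P.Fiber S →ₐ[P.ResidueField] Q.ResidueField :=
    Algebra.TensorProduct.lift (Algebra.ofId _ _) (IsScalarTower.toAlgHom A S Q.ResidueField)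
      fun _ _ => Commute.all _ _
  let I := ψ.range
  haveI : Algebra.FiniteType P.ResidueField I :=
    Algebra.FiniteType.of_surjective ψ.rangeRestrict ψ.rangeRestrict_surjective
  obtain ⟨n, hn, hnt⟩ := VarDim.exists_dim_eq_trdeg P.ResidueField I
  have hnd : n ≤ d := by
    have := (ringKrullDim_le_of_surjective ψ.rangeRestrict.toRingHom
      ψ.rangeRestrict_surjective).trans h
    rw [hn] at this
    exact_mod_cast this
  letI : Algebra (A ⧸ P) Q.ResidueField :=
    ((algebraMap P.ResidueField Q.ResidueField).comp (algebraMap (A ⧸ P) P.ResidueField)).toAlgebra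
  haveI : IsScalarTower (A ⧸ P) P.ResidueField Q.ResidueField :=
    IsScalarTower.of_algebraMap_eq' rfl
  letI : Algebra (A ⧸ P) I :=
    ((algebraMap P.ResidueField I).comp (algebraMap (A ⧸ P) P.ResidueField)).toAlgebra
  haveI : IsScalarTower (A ⧸ P) P.ResidueField I := IsScalarTower.of_algebraMap_eq' rfl
  let vI : I →ₐ[A ⧸ P] Q.ResidueField := (I.val).restrictScalars (A ⧸ P)
  -- lift the family
  let j : S ⧸ Q →+* Q.ResidueField := algebraMap (S ⧸ Q) Q.ResidueField
  have hmem : ∀ i, j (g i) ∈ I := fun i => by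
    obtain ⟨s, hs⟩ := Ideal.Quotient.mk_surjective (g i)
    refine ⟨1 ⊗ₜ[A] s, ?_⟩
    simp [ψ, j, ← hs, ← IsScalarTower.algebraMap_apply]
  have hj : AlgebraicIndependent (A ⧸ P) (j ∘ g) := by
    refine hg.ringHom_of_comp_eq (RingHom.id _) j Function.surjective_id
      Q.injective_algebraMap_quotient_residueField ?_
    refine Ideal.Quotient.ringHom_ext (RingHom.ext fun a => ?_)
    simp only [RingHom.coe_comp, Function.comp_apply, RingHom.id_apply, j]
    change algebraMap P.ResidueField Q.ResidueField (algebraMap A P.ResidueField a) =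
      algebraMap S Q.ResidueField (algebraMap A S a)
    rw [← IsScalarTower.algebraMap_apply, ← IsScalarTower.algebraMap_apply]
  have hI : AlgebraicIndependent (A ⧸ P) (fun i => (⟨j (g i), hmem i⟩ : I)) := hj.of_comp vI
  have h1 := hI.lift_cardinalMk_le_trdeg
  have h0 : Algebra.trdeg (A ⧸ P) P.ResidueField = 0 := by
    haveI : Algebra.IsAlgebraic (A ⧸ P) P.ResidueField :=
      IsLocalization.isAlgebraic P.ResidueField (nonZeroDivisors (A ⧸ P))
    exact trdeg_eq_zero
  haveI : FaithfulSMul P.ResidueField I :=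
    (faithfulSMul_iff_algebraMap_injective _ _).mpr (algebraMap P.ResidueField I).injective
  rw [← trdeg_add_eq (A ⧸ P) P.ResidueField (A := I), h0, zero_add, hnt] at h1
  simp only [Cardinal.mk_fin, Cardinal.lift_natCast, Nat.cast_le] at h1
  omega

/-- A finitely generated domain over `κ(P)` generated by the image of `S` has dimension `≤ d`. -/
theorem trdeg_le_of_not_indep (P : Ideal A) [P.IsPrime] {d : ℕ}
    (h : ∀ (Q : Ideal S) [Q.IsPrime] [Q.LiesOver P] (g : Fin (d + 1) → S ⧸ Q),
      ¬ AlgebraicIndependent (A ⧸ P) g)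
    (I : Type u) [CommRing I] [IsDomain I] [Algebra P.ResidueField I] [Algebra A I]
    [IsScalarTower A P.ResidueField I] (φ : S →ₐ[A] I)
    (hgen : Algebra.adjoin P.ResidueField (Set.range φ) = ⊤) {n : ℕ}
    (hnt : Algebra.trdeg P.ResidueField I = n) : n ≤ d := by
  by_contra hlt
  haveI : Algebra.IsAlgebraic (Algebra.adjoin P.ResidueField (Set.range φ)) I := by
    rw [hgen]
    exact ⟨fun x => isAlgebraic_algebraMap (⟨x, trivial⟩ : (⊤ : Subalgebra P.ResidueField I))⟩
  obtain ⟨t, hts, ht⟩ := exists_isTranscendenceBasis_subset (R := P.ResidueField) (Set.range φ)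
  have hcard := ht.cardinalMk_eq_trdeg
  rw [hnt] at hcard
  obtain ⟨f⟩ : Nonempty (Fin (d + 1) ↪ t) := by
    rw [← Cardinal.lift_mk_le', hcard]
    simp
    exact_mod_cast (not_le.mp hlt)
  choose s hs using fun i => hts (f i).2
  set Q : Ideal S := RingHom.ker φ.toRingHom with hQ
  haveI : Q.IsPrime := RingHom.ker_isPrime _
  haveI : Q.LiesOver P := ⟨by
    ext a
    simp only [Ideal.under_def, Ideal.mem_comap, hQ, RingHom.mem_ker, AlgHom.toRingHom_eq_coe,
      RingHom.coe_coe, AlgHom.commutes]
    rw [IsScalarTower.algebraMap_apply A P.ResidueField I, map_eq_zero,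
      Ideal.algebraMap_residueField_eq_zero]⟩
  refine h Q (fun i => Ideal.Quotient.mk Q (s i)) ?_
  letI : Algebra (A ⧸ P) I :=
    ((algebraMap P.ResidueField I).comp (algebraMap (A ⧸ P) P.ResidueField)).toAlgebra
  haveI : IsScalarTower (A ⧸ P) P.ResidueField I := IsScalarTower.of_algebraMap_eq' rfl
  have h2 : AlgebraicIndependent (A ⧸ P) (fun i => ((f i : t) : I)) :=
    AlgebraicIndependent.restrictScalars P.injective_algebraMap_quotient_residueField
      (ht.1.comp f f.injective)
  refine AlgebraicIndependent.of_ringHom_of_comp_eq (RingHom.id (A ⧸ P))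
    (Ideal.Quotient.lift Q φ.toRingHom fun x hx => hx) ?_ Function.injective_id ?_
  · simpa [Function.comp_def, hs] using h2
  · refine Ideal.Quotient.ringHom_ext (RingHom.ext fun a => ?_)
    simp only [RingHom.coe_comp, Function.comp_apply, RingHom.id_apply]
    change algebraMap P.ResidueField I (algebraMap A P.ResidueField a) = φ (algebraMap A S a)
    rw [φ.commutes, ← IsScalarTower.algebraMap_apply]

set_option synthInstance.maxHeartbeats 200000 in
theorem dim_le_of_not_indep [Algebra.FiniteType A S] (P : Ideal A) [P.IsPrime] {d : ℕ}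
    (h : ∀ (Q : Ideal S) [Q.IsPrime] [Q.LiesOver P] (g : Fin (d + 1) → S ⧸ Q),
      ¬ AlgebraicIndependent (A ⧸ P) g) :
    ringKrullDim (P.Fiber S) ≤ (d : WithBot ℕ∞) := by
  rcases subsingleton_or_nontrivial (P.Fiber S) with hF | hF
  · rw [ringKrullDim_eq_bot_of_subsingleton]
    exact bot_le
  rw [ringKrullDim, Order.krullDim_eq_iSup_coheight_of_nonempty, ← WithBot.coe_natCast,
    WithBot.coe_le_coe]
  refine iSup_le fun q => ?_
  rw [← WithBot.coe_le_coe, VarDim.coheight_eq_ringKrullDim_quotient]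
  obtain ⟨n, hn, hnt⟩ := VarDim.exists_dim_eq_trdeg P.ResidueField (P.Fiber S ⧸ q.asIdeal)
  rw [hn]
  suffices n ≤ d by exact_mod_cast this
  let φ : S →ₐ[A] P.Fiber S ⧸ q.asIdeal :=
    ((Ideal.Quotient.mkₐ P.ResidueField q.asIdeal).restrictScalars A).comp
      Algebra.TensorProduct.includeRight
  refine trdeg_le_of_not_indep P h _ φ (top_unique fun x _ => ?_) hnt
  obtain ⟨z, rfl⟩ := Ideal.Quotient.mk_surjective x
  induction z using TensorProduct.induction_on with
  | zero => simp
  | tmul c s =>
    have : Ideal.Quotient.mk q.asIdeal (c ⊗ₜ[A] s) =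
        algebraMap P.ResidueField _ c * φ s := by
      rw [IsScalarTower.algebraMap_apply P.ResidueField (P.Fiber S), Ideal.Quotient.algebraMap_eq]
      change _ = Ideal.Quotient.mk q.asIdeal _ * Ideal.Quotient.mk q.asIdeal (1 ⊗ₜ[A] s)
      rw [← map_mul]
      simp
    rw [this]
    exact mul_mem (Subalgebra.algebraMap_mem _ c) (Algebra.subset_adjoin ⟨s, rfl⟩)
  | add z w hz hw =>
    rw [map_add]
    exact add_mem (hz trivial) (hw trivial)

end Groth.Agent.FibDimPow
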