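import Mathlib
import Groth.Agent.FibDimPow.Core
import Groth.Agent.FibDimPow.Dim

/-!
# Fibre dimension of `R[X] → S` is stable under `a ↦ a ^ n + b` for `n ≫ 0`
-/

set_option autoImplicit false

open Polynomial Topology

namespace Groth.Agent.FibDimPow

universe u

variable {R S : Type u} [CommRing R] [CommRing S] [Algebra R S]

/-- Fibre dimensions of `R[X] → S`, `X ↦ c` bounded by `d`. -/
def DimBound (d : ℕ) (c : S) : Prop :=
  ∀ P : PrimeSpectrum R[X], letI := (Polynomial.aeval (R := R) c).toRingHom.toAlgebra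
    ringKrullDim (P.asIdeal.Fiber S) ≤ d

/-- Transcendence form of the bound. -/
def TrBound (R : Type u) {S : Type u} [CommRing R] [CommRing S] [Algebra R S] (d : ℕ) (c : S) :
    Prop :=
  ∀ (Q : Ideal S) [Q.IsPrime] (g : Fin (d + 1) → S ⧸ Q),
    ¬ AlgebraicIndependent
      (Algebra.adjoin (R ⧸ Q.under R) ({Ideal.Quotient.mk Q c} : Set (S ⧸ Q))) g

theorem indep_iff [Algebra R[X] S] (c : S)
    (hc : ∀ q, algebraMap R[X] S q = Polynomial.aeval c q)
    {ι : Type} (Q : Ideal S) [Q.IsPrime] (P : Ideal R[X]) [Q.LiesOver P]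
    (g : ι → S ⧸ Q) :
    (AlgebraicIndependent (R[X] ⧸ P) g ↔ AlgebraicIndependent
      (Algebra.adjoin (R ⧸ Q.under R) ({Ideal.Quotient.mk Q c} : Set (S ⧸ Q))) g) := by
  set c' := Ideal.Quotient.mk Q c
  set R₀ := R ⧸ Q.under R
  let T := Algebra.adjoin R₀ ({c'} : Set (S ⧸ Q))
  let π : R[X] →+* T :=
    ((Polynomial.aeval (⟨c', Algebra.self_mem_adjoin_singleton R₀ c'⟩ : T)).toRingHom).comp
      (Polynomial.mapRingHom (algebraMap R R₀))
  have hπ : ∀ q, ((π q : T) : S ⧸ Q) = Ideal.Quotient.mk Q (Polynomial.aeval c q) := by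
    intro q
    simp only [π, RingHom.coe_comp, Function.comp_apply, Polynomial.coe_mapRingHom,
      AlgHom.toRingHom_eq_coe, RingHom.coe_coe, Polynomial.aeval_subalgebra_coe]
    rw [Polynomial.aeval_map_algebraMap, ← Ideal.Quotient.mkₐ_eq_mk R Q,
      ← Polynomial.aeval_algHom_apply]
    rfl
  have hP : ∀ q, q ∈ P ↔ π q = 0 := fun q => by
    rw [← ZeroMemClass.coe_eq_zero, hπ, Ideal.Quotient.eq_zero_iff_mem]
    rw [← hc]
    exact Ideal.mem_of_liesOver Q P q
  let f : R[X] ⧸ P →+* T := Ideal.Quotient.lift P π fun q hq => (hP q).mp hq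
  have hfb : Function.Bijective f := by
    refine ⟨RingHom.lift_injective_of_ker_le_ideal _ _ fun q hq => (hP q).mpr hq, fun x => ?_⟩
    obtain ⟨q, hq⟩ : ∃ q : R₀[X], Polynomial.aeval c' q = (x : S ⧸ Q) := by
      have : (x : S ⧸ Q) ∈ Algebra.adjoin R₀ ({c'} : Set (S ⧸ Q)) := x.2
      rwa [Algebra.adjoin_singleton_eq_range_aeval] at this
    obtain ⟨q', rfl⟩ := Polynomial.map_surjective (algebraMap R R₀) Ideal.Quotient.mk_surjective q
    refine ⟨Ideal.Quotient.mk P q', Subtype.ext ?_⟩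
    simp [f, π, ← hq, Polynomial.aeval_map_algebraMap]
    exact (Polynomial.aeval_algHom_apply (((Algebra.adjoin R₀ ({c'} : Set (S ⧸ Q))).val).restrictScalars R)
      _ q').symm
  refine (algebraicIndependent_ringHom_iff_of_comp_eq (RingEquiv.ofBijective f hfb)
    (RingHom.id (S ⧸ Q)) Function.injective_id ?_).symm
  refine Ideal.Quotient.ringHom_ext (RingHom.ext fun q => ?_)
  simp only [RingHom.coe_comp, Function.comp_apply, RingHom.id_apply]
  exact (hπ q).trans (by rw [← hc]; rfl)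

theorem trBound_of_dimBound [Algebra.FiniteType R S] {d : ℕ} {c : S}
    (h : DimBound (R := R) d c) : TrBound R d c := by
  intro Q _ g
  letI := (Polynomial.aeval (R := R) c).toRingHom.toAlgebra
  haveI : IsScalarTower R R[X] S :=
    IsScalarTower.of_algebraMap_eq fun r => (Polynomial.aeval_C c r).symm
  haveI : Algebra.FiniteType R[X] S := Algebra.FiniteType.of_restrictScalars_finiteType R R[X] S
  have hQ : Q.LiesOver (Q.under R[X]) := ⟨rfl⟩
  rw [← indep_iff c (fun _ => rfl) Q (Q.under R[X]) g]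
  exact not_indep_of_dim_le (Q.under R[X]) Q (h ⟨Q.under R[X], inferInstance⟩) g

theorem dimBound_of_trBound [Algebra.FiniteType R S] {d : ℕ} {c : S}
    (h : TrBound R d c) : DimBound (R := R) d c := by
  intro P
  letI := (Polynomial.aeval (R := R) c).toRingHom.toAlgebra
  haveI : IsScalarTower R R[X] S :=
    IsScalarTower.of_algebraMap_eq fun r => (Polynomial.aeval_C c r).symm
  haveI : Algebra.FiniteType R[X] S := Algebra.FiniteType.of_restrictScalars_finiteType R R[X] S
  refine dim_le_of_not_indep P.asIdeal fun Q _ _ g => ?_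
  rw [indep_iff c (fun _ => rfl) Q P.asIdeal g]
  exact h Q g

/-- Uniform witnesses of dependence. -/
theorem exists_uniform_bound {N : ℕ} (w : Fin (N + 1) → S)
    (h : ∀ (Q : Ideal S) [Q.IsPrime], ¬ AlgebraicIndependent (R ⧸ Q.under R)
      fun i => Ideal.Quotient.mk Q (w i)) (k : Fin (N + 1)) :
    ∃ D : ℕ, ∀ (Q : Ideal S) [Q.IsPrime],
      ∃ F : MvPolynomial (Fin (N + 1)) (R ⧸ Q.under R), F ≠ 0 ∧
        MvPolynomial.aeval (fun i => Ideal.Quotient.mk Q (w i)) F = 0 ∧ F.degreeOf k < D := by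
  classical
  -- witnesses: polynomials over `R` and a monomial
  let ι := MvPolynomial (Fin (N + 1)) R × (Fin (N + 1) →₀ ℕ)
  let U : ι → Set (PrimeSpectrum S) := fun x =>
    PrimeSpectrum.zeroLocus {MvPolynomial.aeval w x.1} ∩
      (PrimeSpectrum.basicOpen (algebraMap R S (MvPolynomial.coeff x.2 x.1)) : Set _)
  let V : ι → Set (WithConstructibleTopology (PrimeSpectrum S)) := fun x =>
    WithTopology.ofTopology ⁻¹' U x
  have hV : ∀ x, IsOpen (V x) := by
    intro x
    refine (WithTopology.isOpen_iff _).mpr ?_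
    change IsOpen[constructibleTopology (PrimeSpectrum S)] (U x)
    refine @IsOpen.inter _ (constructibleTopology (PrimeSpectrum S)) _ _ ?_ ?_
    · refine IsCompact.isOpen_constructibleTopology_of_isClosed ?_
        (PrimeSpectrum.isClosed_zeroLocus _)
      rw [← PrimeSpectrum.basicOpen_eq_zeroLocus_compl]
      exact PrimeSpectrum.isCompact_basicOpen _
    · exact IsCompact.isOpen_constructibleTopology_of_isOpen
        (PrimeSpectrum.isCompact_basicOpen _) PrimeSpectrum.isOpen_basicOpen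
  have hcov : Set.univ ⊆ ⋃ x, V x := by
    intro z _
    set Q := (WithTopology.ofTopology z).asIdeal with hQ
    have hdep := h Q
    rw [algebraicIndependent_iff] at hdep
    push Not at hdep
    obtain ⟨F, hF, hF0⟩ := hdep
    obtain ⟨F', rfl⟩ := MvPolynomial.map_surjective (Ideal.Quotient.mk (Q.under R))
      Ideal.Quotient.mk_surjective F
    obtain ⟨s, hs⟩ := MvPolynomial.exists_coeff_ne_zero hF0
    rw [MvPolynomial.coeff_map, ne_eq, Ideal.Quotient.eq_zero_iff_mem] at hs
    refine Set.mem_iUnion.mpr ⟨(F', s), ⟨?_, hs⟩⟩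
    rw [PrimeSpectrum.mem_zeroLocus, Set.singleton_subset_iff, SetLike.mem_coe,
      ← Ideal.Quotient.eq_zero_iff_mem, ← hF,
      show Ideal.Quotient.mk (Q.under R) = algebraMap R (R ⧸ Q.under R) from rfl,
      MvPolynomial.aeval_map_algebraMap, ← Ideal.Quotient.mkₐ_eq_mk R Q,
      MvPolynomial.comp_aeval_apply]
  obtain ⟨t, ht⟩ := isCompact_univ.elim_finite_subcover V hV hcov
  refine ⟨t.sup (fun x => x.1.degreeOf k) + 1, fun Q hQ => ?_⟩
  obtain ⟨x, hxt, hx⟩ := Set.mem_iUnion₂.mp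
    (ht (Set.mem_univ (WithTopology.toTopology _ (⟨Q, hQ⟩ : PrimeSpectrum S))))
  obtain ⟨hx1, hx2⟩ := hx
  refine ⟨MvPolynomial.map (Ideal.Quotient.mk (Q.under R)) x.1, ?_, ?_, ?_⟩
  · intro h0
    have := congr_arg (MvPolynomial.coeff x.2) h0
    rw [MvPolynomial.coeff_map, MvPolynomial.coeff_zero, Ideal.Quotient.eq_zero_iff_mem] at this
    exact hx2 this
  · rw [show Ideal.Quotient.mk (Q.under R) = algebraMap R (R ⧸ Q.under R) from rfl,
      MvPolynomial.aeval_map_algebraMap, ← Ideal.Quotient.mkₐ_eq_mk R Q,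
      ← MvPolynomial.comp_aeval_apply, Ideal.Quotient.mkₐ_eq_mk, Ideal.Quotient.eq_zero_iff_mem]
    exact hx1 rfl
  · refine Nat.lt_succ_of_le (le_trans ?_ (Finset.le_sup (f := fun x : ι => x.1.degreeOf k) hxt))
    rw [MvPolynomial.degreeOf_le_iff]
    intro m hm
    exact MvPolynomial.degreeOf_le_iff.mp le_rfl m (MvPolynomial.support_map_subset _ _ hm)

theorem exists_bound [Algebra.FiniteType R S] (d : ℕ) (a b : S) (ha : DimBound (R := R) d a) :
    ∃ n₀ : ℕ, ∀ n ≥ n₀, DimBound (R := R) d (a ^ n + b) := by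
  classical
  obtain ⟨gens, hgens⟩ := (inferInstance : Algebra.FiniteType R S).out
  let v : Fin gens.card → S := fun i => (gens.equivFin.symm i : S)
  have hv : Set.range v = (gens : Set S) := by
    ext x
    exact ⟨fun ⟨i, hi⟩ => hi ▸ (gens.equivFin.symm i).2, fun hx => ⟨gens.equivFin ⟨x, hx⟩, by simp [v]⟩⟩
  have hta := trBound_of_dimBound ha
  have hD : ∀ j : Fin d → Fin gens.card, ∃ D : ℕ, ∀ (Q : Ideal S) [Q.IsPrime],
      ∃ F : MvPolynomial (Fin (d + 2)) (R ⧸ Q.under R), F ≠ 0 ∧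
        MvPolynomial.aeval (fun i => Ideal.Quotient.mk Q
          ((Fin.cons b (Fin.cons a fun i => v (j i)) : Fin (d + 2) → S) i)) F = 0 ∧
        F.degreeOf 1 < D := fun j =>
    exists_uniform_bound _ (fun Q _ => not_indep_add_two _ (hta Q) _) 1
  choose D hD using hD
  refine ⟨Finset.univ.sup D, fun n hn => dimBound_of_trBound fun Q _ g => ?_⟩
  have hgenQ : Algebra.adjoin (R ⧸ Q.under R)
      (Set.range fun i => Ideal.Quotient.mk Q (v i)) = ⊤ := by
    refine Subalgebra.restrictScalars_injective R (top_unique ?_)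
    refine le_trans ?_ (Algebra.adjoin_le (R := R)
      (fun x hx => Algebra.subset_adjoin hx) : Algebra.adjoin R
        (Set.range fun i => Ideal.Quotient.mk Q (v i)) ≤ (Algebra.adjoin (R ⧸ Q.under R)
          (Set.range fun i => Ideal.Quotient.mk Q (v i))).restrictScalars R)
    rw [Set.range_comp' (Ideal.Quotient.mk Q) v, hv, ← Ideal.Quotient.mkₐ_eq_mk R Q,
      Algebra.adjoin_image, hgens, Algebra.map_top, (AlgHom.range_eq_top _).mpr
        (Ideal.Quotient.mkₐ_surjective R Q)]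
  rw [map_add, map_pow]
  refine not_indep_pow_add (Ideal.Quotient.mk Q a) (Ideal.Quotient.mk Q b) _ hgenQ (hta Q)
    (fun j => ?_) g
  obtain ⟨F, hF0, hF, hFD⟩ := hD j Q
  refine ⟨F, hF0, ?_, hFD.trans_le ((Finset.le_sup (Finset.mem_univ j)).trans hn)⟩
  have he : (fun i => Ideal.Quotient.mk Q
      ((Fin.cons b (Fin.cons a fun i => v (j i)) : Fin (d + 2) → S) i)) =
      (Fin.cons (Ideal.Quotient.mk Q b) (Fin.cons (Ideal.Quotient.mk Q a)
        fun i => Ideal.Quotient.mk Q (v (j i))) : Fin (d + 2) → S ⧸ Q) := by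
    funext i
    refine Fin.cases ?_ (fun i => Fin.cases ?_ (fun i => ?_) i) i <;> simp
  rw [he] at hF
  exact hF

end Groth.Agent.FibDimPow
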